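import Mathlib
import Cfsg.Agent.H496.TwEight.HOFacts_m3
import Cfsg.Agent.H240.BalTwF.Sz
import Cfsg.Agent.H240.BalTwF.Plus
import Cfsg.Agent.H136.TwF.Peel
import Cfsg.Agent.H772.TF.PlusH
import Cfsg.Agent.FastGrp
import Cfsg.Agent.Prune
set_option linter.all false
prune_inst 0x7f00000000000000000000000000000000000000000000000000000000000000000000000000000000000000000000000000000000000000000000000000000000000000000000000000000000000000003fffffffffffffffffffffffffffbeffbdffffffff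
open scoped Cfsg.Agent.FastGrp

-- part: H326/TF/SL
section
/-!
# `SL₂(F)` in characteristic two: commuting elements (helper326, S4324, row `²F₄`)

* `exists_poly` : a matrix commuting with a non-scalar `2 × 2` matrix `A` is `x + y A`;
* `sq_of_inv` : an element of `SL₂(F)` commuting with an involution has square `1`;
* `pow_card` : an element commuting with `A ≠ 1`, `A ^ (q - 1) = 1` satisfies the same equation.
-/

set_option autoImplicit false

namespace Cfsg.Agent.H326.TF.SL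

open Matrix

variable {F : Type*} [Field F]

theorem exists_poly {A B : Matrix (Fin 2) (Fin 2) F} (h : A * B = B * A) (hA : ∀ c : F, A ≠ c • (1 : Matrix (Fin 2) (Fin 2) F)) :
    ∃ x y : F, B = x • (1 : Matrix (Fin 2) (Fin 2) F) + y • A := by
  have h00 := congrFun (congrFun h 0) 0
  have h01 := congrFun (congrFun h 0) 1
  have h10 := congrFun (congrFun h 1) 0
  rw [Matrix.mul_apply, Matrix.mul_apply, Fin.sum_univ_two, Fin.sum_univ_two] at h00 h01 h10
  have key : ∀ x y : F, B 0 0 = x + y * A 0 0 → B 0 1 = y * A 0 1 → B 1 0 = y * A 1 0 → B 1 1 = x + y * A 1 1 →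
      B = x • (1 : Matrix (Fin 2) (Fin 2) F) + y • A := by
    intro x y e1 e2 e3 e4
    ext i j
    fin_cases i <;> fin_cases j
    · simpa using e1
    · simpa using e2
    · simpa using e3
    · simpa using e4
  by_cases hb : A 0 1 = 0
  · by_cases hc : A 1 0 = 0
    · have hd : A 0 0 - A 1 1 ≠ 0 := by
        intro hd
        apply hA (A 0 0)
        ext i j
        fin_cases i <;> fin_cases j
        · simp
        · simpa using hb
        · simpa using hc
        · simpa using (sub_eq_zero.1 hd).symm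
      have hf : B 0 1 = 0 := by
        rw [hb] at h01
        have : (A 0 0 - A 1 1) * B 0 1 = 0 := by linear_combination h01
        exact (mul_eq_zero.1 this).resolve_left hd
      have hg : B 1 0 = 0 := by
        rw [hc] at h10
        have : (A 0 0 - A 1 1) * B 1 0 = 0 := by linear_combination -h10
        exact (mul_eq_zero.1 this).resolve_left hd
      refine ⟨B 0 0 - (B 0 0 - B 1 1) / (A 0 0 - A 1 1) * A 0 0, (B 0 0 - B 1 1) / (A 0 0 - A 1 1), ?_⟩
      refine key _ _ (by ring) (by rw [hf, hb, mul_zero]) (by rw [hg, hc, mul_zero]) ?_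
      field_simp
      ring
    · refine ⟨B 0 0 - B 1 0 / A 1 0 * A 0 0, B 1 0 / A 1 0, ?_⟩
      have hf : B 0 1 = 0 := by
        rw [hb] at h00
        have : A 1 0 * B 0 1 = 0 := by linear_combination -h00
        exact (mul_eq_zero.1 this).resolve_left hc
      refine key _ _ (by ring) (by rw [hf, hb, mul_zero]) (by field_simp) ?_
      field_simp
      linear_combination -h10
  · refine ⟨B 0 0 - B 0 1 / A 0 1 * A 0 0, B 0 1 / A 0 1, ?_⟩
    refine key _ _ (by ring) (by field_simp) ?_ ?_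
    · field_simp
      linear_combination h00
    · field_simp
      linear_combination h01

theorem eq_one_of_scalar [CharP F 2] {A : SpecialLinearGroup (Fin 2) F} {c : F}
    (h : A.1 = c • (1 : Matrix (Fin 2) (Fin 2) F)) : A = 1 := by
  have h1 := A.2
  rw [h, Matrix.det_smul, Matrix.det_one, mul_one, Fintype.card_fin] at h1
  have h2 : (c - 1) ^ 2 = 0 := by
    have h3 : (2 : F) = 0 := CharTwo.two_eq_zero
    linear_combination h1 - (c - 1) * h3
  have h3 : c = 1 := sub_eq_zero.1 (pow_eq_zero_iff (two_ne_zero)|>.1 h2)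
  apply Subtype.ext
  rw [h, h3, one_smul]
  rfl

theorem not_scalar [CharP F 2] {A : SpecialLinearGroup (Fin 2) F} (h : A ≠ 1) (c : F) :
    A.1 ≠ c • (1 : Matrix (Fin 2) (Fin 2) F) := fun h1 => h (eq_one_of_scalar h1)

theorem exists_poly' [CharP F 2] {A B : SpecialLinearGroup (Fin 2) F} (h : A * B = B * A) (hA : A ≠ 1) :
    ∃ x y : F, B.1 = x • (1 : Matrix (Fin 2) (Fin 2) F) + y • A.1 :=
  exists_poly (congrArg Subtype.val h) (not_scalar hA)

/-- an element commuting with an involution has square `1` -/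
theorem sq_of_inv [CharP F 2] {A B : SpecialLinearGroup (Fin 2) F} (h : A * B = B * A) (hA : A ≠ 1) (hA2 : A * A = 1) :
    B * B = 1 := by
  obtain ⟨x, y, hB⟩ := exists_poly' h hA
  have h2 : (2 : F) = 0 := CharTwo.two_eq_zero
  have hAA : A.1 * A.1 = 1 := congrArg Subtype.val hA2
  apply eq_one_of_scalar (c := x ^ 2 + y ^ 2)
  show B.1 * B.1 = _
  rw [hB, add_mul, mul_add, mul_add, smul_mul_smul_comm, smul_mul_smul_comm, smul_mul_smul_comm, smul_mul_smul_comm, hAA,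
    one_mul, one_mul, mul_one, mul_comm y x]
  have h3 : (x * x) • (1 : Matrix (Fin 2) (Fin 2) F) + (x * y) • A.1 +
      ((x * y) • A.1 + (y * y) • (1 : Matrix (Fin 2) (Fin 2) F)) =
      (x ^ 2 + y ^ 2) • (1 : Matrix (Fin 2) (Fin 2) F) + (2 * (x * y)) • A.1 := by
    module
  rw [h3, h2, zero_mul, zero_smul, add_zero]

theorem pow_val (A : SpecialLinearGroup (Fin 2) F) (n : ℕ) : (A ^ n).1 = A.1 ^ n := by
  induction n with
  | zero => rw [pow_zero, pow_zero]; rfl
  | succ n ih =>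
    rw [pow_succ, pow_succ, ← ih]
    rfl

/-- an element commuting with `A ≠ 1`, `A ^ (q - 1) = 1` -/
theorem pow_card [Finite F] [CharP F 2] {k : ℕ} (hF : Nat.card F = 2 ^ k) {A B : SpecialLinearGroup (Fin 2) F}
    (h : A * B = B * A) (hA : A ≠ 1) (hA2 : A ^ (Nat.card F - 1) = 1) : B ^ (Nat.card F - 1) = 1 := by
  have : Fact (Nat.Prime 2) := ⟨Nat.prime_two⟩
  obtain ⟨hfin⟩ := nonempty_fintype F
  obtain ⟨x, y, hB⟩ := exists_poly' h hA
  have hpos : 0 < Nat.card F := Nat.card_pos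
  have hAq : A ^ Nat.card F = A := by
    have h1 : A ^ Nat.card F = A ^ (Nat.card F - 1) * A := by
      rw [← pow_succ, Nat.sub_add_cancel hpos]
    rw [h1, hA2, one_mul]
  have hAq' : A.1 ^ (2 ^ k) = A.1 := by
    rw [← hF, ← pow_val, hAq]
  have hfx : ∀ z : F, z ^ (2 ^ k) = z := by
    intro z
    rw [← hF, Nat.card_eq_fintype_card]
    exact FiniteField.pow_card z
  have hBq : B.1 ^ (2 ^ k) = B.1 := by
    have hc : Commute (x • (1 : Matrix (Fin 2) (Fin 2) F)) (y • A.1) := by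
      show (x • (1 : Matrix (Fin 2) (Fin 2) F)) * (y • A.1) = _
      rw [smul_mul_smul_comm, smul_mul_smul_comm, one_mul, mul_one, mul_comm]
    rw [hB, add_pow_char_pow_of_commute (p := 2) _ hc, smul_pow, smul_pow, one_pow, hAq', hfx, hfx]
  have hBq' : B ^ Nat.card F = B := by
    apply Subtype.ext
    rw [hF]
    show (B ^ (2 ^ k)).1 = _
    rw [pow_val, hBq]
  have h1 : B ^ Nat.card F = B ^ (Nat.card F - 1) * B := by
    rw [← pow_succ, Nat.sub_add_cancel hpos]
  rw [h1] at hBq'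
  exact mul_eq_right.1 hBq'

end Cfsg.Agent.H326.TF.SL
end

-- part: H326/TF/Inv
section
/-!
# `²F₄(q)`, `q ≥ 8`: elements commuting with involutions (helper326, S4324)

* `exists_levi` : an element of prime order commuting with an involution is conjugate into `L4 ≅ Sz(q)` or
  `LO ≅ SL₂(q)`;
* `regZ`, `regO` : commuting elements of order `l ∣ q - 1` and of order `5` (resp. `3`) do not commute with a common
  involution.
-/

set_option autoImplicit false
set_option linter.unusedSectionVars false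

namespace Cfsg.Agent.H326.TF

open Subgroup Cfsg
open Cfsg.Agent.SplitTwo Cfsg.Agent.SplitTwo.ZS Cfsg.Agent.TitsThree.RankTwoZ Cfsg.Agent.SplitTwo.RootSysZ
open Cfsg.Agent.KFacts.TwF4 Cfsg.Agent.KFacts.TwF4.Arc Cfsg.Agent.KFacts.TwF4.Irr Cfsg.Agent.KFacts.TwF4.Perf
open Cfsg.Agent.KFacts.TwF4.Inv Cfsg.Agent.CpAutTwF.Cent
open Cfsg.Agent.H496.TwFRad.Levi (card_L4 card_Tk4 L4_inf_Q)
open Cfsg.Agent.H42.Deg.F4 (TM TM_le_T TM_le_LO card_TM card_LO)
open Cfsg.Agent.H772.TF Cfsg.Agent.H240.BalTwF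

universe u

section Gen

/-- conjugating an element of order `p` into a subgroup of index prime to `p` -/
theorem exists_conj_mem {G : Type*} [Group G] [Finite G] {H M : Subgroup G} (hHM : H ≤ M) {p n : ℕ} (hp : p.Prime)
    (hc : Nat.card M = Nat.card H * n) (hn : ¬ p ∣ n) {x : G} (hxM : x ∈ M) (hx : orderOf x = p) :
    ∃ g ∈ M, g * x * g⁻¹ ∈ H := by
  have : Fact p.Prime := ⟨hp⟩
  have hx' : IsPGroup p (zpowers (⟨x, hxM⟩ : M)) := by
    refine IsPGroup.of_card (n := 1) ?_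
    rw [Nat.card_zpowers, Subgroup.orderOf_mk, hx, pow_one]
  have hidx : Nat.card (M ⧸ H.subgroupOf M) = n := by
    have h1 := Subgroup.card_eq_card_quotient_mul_card_subgroup (H.subgroupOf M)
    rw [Nat.card_congr (subgroupOfEquivOfLe hHM).toEquiv, hc, mul_comm] at h1
    exact (Nat.eq_of_mul_eq_mul_right Nat.card_pos h1).symm
  obtain ⟨y, hy⟩ := hx'.nonempty_fixed_point_of_prime_not_dvd_card (M ⧸ H.subgroupOf M) (by rwa [hidx])
  obtain ⟨g, rfl⟩ := QuotientGroup.mk_surjective y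
  have h1 := hy ⟨⟨x, hxM⟩, mem_zpowers _⟩
  have h2 : (((⟨x, hxM⟩ : M) * g : M) : M ⧸ H.subgroupOf M) = (g : M ⧸ H.subgroupOf M) := h1
  rw [QuotientGroup.eq, mem_subgroupOf] at h2
  have h3 := inv_mem h2
  refine ⟨(g : G)⁻¹, inv_mem g.2, ?_⟩
  have e : ((((⟨x, hxM⟩ : M) * g)⁻¹ * g : M) : G)⁻¹ = (g : G)⁻¹ * x * (g : G)⁻¹⁻¹ := by
    push_cast
    group
  rwa [e] at h3

theorem orderOf_cj {G : Type*} [Group G] (k x : G) : orderOf (k * x * k⁻¹) = orderOf x :=
  (MulAut.conj k).orderOf_eq x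

theorem comm_cj {G : Type*} [Group G] {x y : G} (h : x * y = y * x) (k : G) :
    (k * x * k⁻¹) * (k * y * k⁻¹) = (k * y * k⁻¹) * (k * x * k⁻¹) := by
  calc (k * x * k⁻¹) * (k * y * k⁻¹) = k * (x * y) * k⁻¹ := by group
    _ = k * (y * x) * k⁻¹ := by rw [h]
    _ = _ := by group

end Gen

section Num

theorem dvd_sub_one {q l : ℕ} (hq : 1 ≤ q) (hl : l.Prime) (h : l ∣ q - 1) : (q : ZMod l) = 1 := by
  rw [← ZMod.natCast_eq_zero_iff, Nat.cast_sub hq, Nat.cast_one, sub_eq_zero] at h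
  exact h

theorem not_dvd_Z {q l : ℕ} (hq : 1 ≤ q) (hl : l.Prime) (hl2 : l ≠ 2) (h : l ∣ q - 1) (n : ℕ) :
    ¬ l ∣ q ^ n * (q * q + 1) := by
  intro hd
  have : Fact l.Prime := ⟨hl⟩
  have h1 := dvd_sub_one hq hl h
  rw [← ZMod.natCast_eq_zero_iff] at hd
  push_cast at hd
  rw [h1, one_pow, one_mul, one_mul] at hd
  have h2 : ((2 : ℕ) : ZMod l) = 0 := by push_cast; linear_combination hd
  exact hl2 ((Nat.prime_dvd_prime_iff_eq hl Nat.prime_two).1 ((ZMod.natCast_eq_zero_iff _ _).1 h2))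

theorem not_dvd_O {q l : ℕ} (hq : 1 ≤ q) (hl : l.Prime) (hl2 : l ≠ 2) (h : l ∣ q - 1) (n : ℕ) :
    ¬ l ∣ q ^ n * (q + 1) := by
  intro hd
  have : Fact l.Prime := ⟨hl⟩
  have h1 := dvd_sub_one hq hl h
  rw [← ZMod.natCast_eq_zero_iff] at hd
  push_cast at hd
  rw [h1, one_pow, one_mul] at hd
  have h2 : ((2 : ℕ) : ZMod l) = 0 := by push_cast; linear_combination hd
  exact hl2 ((Nat.prime_dvd_prime_iff_eq hl Nat.prime_two).1 ((ZMod.natCast_eq_zero_iff _ _).1 h2))

theorem mod15 (m : ℕ) : 2 ^ (2 * m + 1) % 15 = 2 ∨ 2 ^ (2 * m + 1) % 15 = 8 := by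
  induction m with
  | zero => left; norm_num
  | succ m ih =>
    have e : 2 ^ (2 * (m + 1) + 1) = 2 ^ (2 * m + 1) * 4 := by ring
    rw [e, Nat.mul_mod]
    rcases ih with h | h <;> rw [h] <;> decide

theorem not_five {q : ℕ} (h : q % 15 = 2 ∨ q % 15 = 8) (hq : 1 ≤ q) (n : ℕ) : ¬ 5 ∣ q ^ n * (q - 1) * (q + 1) := by
  intro hd
  rcases (Nat.Prime.dvd_mul Nat.prime_five).1 hd with h1 | h1
  · rcases (Nat.Prime.dvd_mul Nat.prime_five).1 h1 with h2 | h2
    · have := Nat.Prime.dvd_of_dvd_pow Nat.prime_five h2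
      omega
    · omega
  · omega

theorem not_five' {q : ℕ} (h : q % 15 = 2 ∨ q % 15 = 8) : ¬ 5 ∣ q - 1 := by omega

theorem not_three' {q : ℕ} (h : q % 15 = 2 ∨ q % 15 = 8) : ¬ 3 ∣ q - 1 := by omega

theorem not_three {q : ℕ} (h : q % 15 = 2 ∨ q % 15 = 8) (hq : 1 ≤ q) (n : ℕ) :
    ¬ 3 ∣ q ^ n * (q - 1) * (q * q + 1) := by
  intro hd
  rcases (Nat.Prime.dvd_mul Nat.prime_three).1 hd with h1 | h1
  · rcases (Nat.Prime.dvd_mul Nat.prime_three).1 h1 with h2 | h2
    · have := Nat.Prime.dvd_of_dvd_pow Nat.prime_three h2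
      omega
    · omega
  · have h2 : q % 3 = 2 := by omega
    have h3 : (q * q + 1) % 3 = 2 := by rw [Nat.add_mod, Nat.mul_mod, h2]
    omega

end Num

section sys

variable {F : Type*} [Field F] {σ : F →+* F} {G : Type u} [Group G] (S : Full σ G) [Finite F] [Finite G]

theorem inv_cases (hF : ∃ c : Fˣ, c ≠ 1) (hR : S.R.p = 2) {t : G} (ht : t * t = 1) (ht1 : t ≠ 1) :
    (∃ (k : G) (u : F), u ≠ 0 ∧ k * t * k⁻¹ = S.e 2 0 u) ∨ ∃ (k : G) (s : F), s ≠ 0 ∧ k * t * k⁻¹ = S.o 2 s := by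
  rcases SylU.classes S hF hR ht ht1 with ⟨u, hu, k, hk⟩ | ⟨s, hs, k, hk⟩
  · left
    refine ⟨S.rot * (S.rot * k), u, hu, ?_⟩
    calc S.rot * (S.rot * k) * t * (S.rot * (S.rot * k))⁻¹ = S.rot * (S.rot * (k * t * k⁻¹) * S.rot⁻¹) * S.rot⁻¹ := by
            group
        _ = S.e 2 0 u := by rw [hk, S.rot_e, S.rot_e]; rfl
  · right
    refine ⟨S.rot * (S.rot * k), s, hs, ?_⟩
    calc S.rot * (S.rot * k) * t * (S.rot * (S.rot * k))⁻¹ = S.rot * (S.rot * (k * t * k⁻¹) * S.rot⁻¹) * S.rot⁻¹ := by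
            group
        _ = S.o 2 s := by rw [hk, S.rot_o, S.rot_o]; rfl

/-- the elements commuting with an involution are simultaneously conjugate into `PL` or `HO` -/
theorem cent_cases (hF : ∃ c : Fˣ, c ≠ 1) (hR : S.R.p = 2) {t : G} (ht : t * t = 1) (ht1 : t ≠ 1) :
    (∃ k : G, ∀ b, b * t = t * b → k * b * k⁻¹ ∈ S.PL) ∨ ∃ k : G, ∀ b, b * t = t * b → k * b * k⁻¹ ∈ S.HO := by
  rcases inv_cases S hF hR ht ht1 with ⟨k, u, hu, hk⟩ | ⟨k, s, hs, hk⟩
  · left
    refine ⟨k, fun b hb => ?_⟩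
    have h := comm_cj hb k
    rw [hk] at h
    have hz1 : S.e 2 0 u ≠ 1 := fun h => hu (S.e_eq_one h).2
    rw [← S.centralizer_z (z := S.e 2 0 u) ⟨u, rfl⟩ hz1, Subgroup.mem_centralizer_singleton_iff]
    exact h
  · right
    refine ⟨k, fun b hb => ?_⟩
    have h := comm_cj hb k
    rw [hk] at h
    rw [← S.centralizer_o hs, Subgroup.mem_centralizer_singleton_iff]
    exact h

theorem card_PL (hF : ∃ c : Fˣ, c ≠ 1) :
    Nat.card S.PL = Nat.card F ^ 12 * (Nat.card F - 1) * (Nat.card F * Nat.card F + 1) :=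
  H496.TwEight.Card.card_PL' S hF

theorem card_HO (hF : ∃ c : Fˣ, c ≠ 1) : Nat.card S.HO = Nat.card F ^ 10 * (Nat.card F - 1) * (Nat.card F + 1) :=
  H496.TwEight.Card.card_HO' S hF

theorem pow_ndvd {q n p k : ℕ} (hq : q = 2 ^ k) (hp : p.Prime) (hp2 : p ≠ 2) : ¬ p ∣ q ^ n := by
  intro h
  rw [hq, ← pow_mul] at h
  exact hp2 ((Nat.prime_dvd_prime_iff_eq hp Nat.prime_two).1 (hp.dvd_of_dvd_pow h))

/-- **an element of prime order commuting with an involution is conjugate into `L4` or `LO`** -/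
theorem exists_levi (hF : ∃ c : Fˣ, c ≠ 1) (hR : S.R.p = 2) {k : ℕ} (hq : Nat.card F = 2 ^ k) {t g : G} (ht : t * t = 1)
    (ht1 : t ≠ 1) (hg : (orderOf g).Prime) (hgt : g * t = t * g) : ∃ k : G, k * g * k⁻¹ ∈ L4 S ∨ k * g * k⁻¹ ∈ S.LO := by
  by_cases hp2 : orderOf g = 2
  · have hgg : g * g = 1 := by rw [← pow_two, ← hp2, pow_orderOf_eq_one]
    have hg1 : g ≠ 1 := by
      rintro rfl
      rw [orderOf_one] at hp2
      omega
    rcases SylU.classes S hF hR hgg hg1 with ⟨u, hu, k, hk⟩ | ⟨s, hs, k, hk⟩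
    · refine ⟨k, Or.inl ?_⟩
      rw [hk]
      have h1 := S.e_mem 0 0 u
      norm_num at h1
      exact X0_L4 S h1
    · refine ⟨k, Or.inr ?_⟩
      rw [hk]
      exact mem_sup_left (S.mX1 s)
  · rcases cent_cases S hF hR ht ht1 with ⟨a, ha⟩ | ⟨a, ha⟩
    · obtain ⟨b, -, hb⟩ := exists_conj_mem (L4_le_PL S) (n := Nat.card F ^ 10) hg (by
        rw [card_PL S hF, card_L4 S hF]; ring) (pow_ndvd hq hg hp2) (ha g hgt) (orderOf_cj a g)
      refine ⟨b * a, Or.inl ?_⟩
      have e : b * a * g * (b * a)⁻¹ = b * (a * g * a⁻¹) * b⁻¹ := by group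
      rwa [e]
    · obtain ⟨b, -, hb⟩ := exists_conj_mem (H := S.LO) (M := S.HO) le_sup_left (n := Nat.card F ^ 9) hg (by
        rw [card_HO S hF, card_LO, Nat.card_units]; ring) (pow_ndvd hq hg hp2) (ha g hgt) (orderOf_cj a g)
      refine ⟨b * a, Or.inr ?_⟩
      have e : b * a * g * (b * a)⁻¹ = b * (a * g * a⁻¹) * b⁻¹ := by group
      rwa [e]

theorem one_le_card : 1 ≤ Nat.card F := Nat.card_pos

/-- **commuting elements of order `l ∣ q - 1` and `5` commute with no common involution** -/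
theorem regZ {m : ℕ} (hm : 1 ≤ m) (hFc : Nat.card F = 2 ^ (2 * m + 1)) (hR : S.R.p = 2) {h1 h2 t : G} {l : ℕ}
    (hl : l.Prime) (hl2 : l ≠ 2) (hlq : l ∣ Nat.card F - 1) (h1l : orderOf h1 = l) (h25 : orderOf h2 = 5)
    (h12 : h1 * h2 = h2 * h1) (ht : t * t = 1) (c1 : h1 * t = t * h1) (c2 : h2 * t = t * h2) : t = 1 := by
  by_contra ht1
  have hF := unit_of_card (F := F) hm hFc
  have hmod := mod15 m
  rw [← hFc] at hmod
  have hpos := one_le_card (F := F)
  rcases cent_cases S hF hR ht ht1 with ⟨a, ha⟩ | ⟨a, ha⟩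
  · obtain ⟨b, hb, hb1⟩ := exists_conj_mem (H := S.Tk 4) (M := S.PL) (fun x hx => L4_le_PL S (Tk4_L4 S hx))
      (n := Nat.card F ^ 12 * (Nat.card F * Nat.card F + 1)) hl (by
        rw [card_PL S hF, card_Tk4]; ring) (not_dvd_Z hpos hl hl2 hlq 12) (ha h1 c1) (by rw [orderOf_cj, h1l])
    obtain ⟨x, hx, s, hs, h⟩ := S.centralizer_Tk (g := b * (a * h2 * a⁻¹) * b⁻¹)
      (mul_mem (mul_mem hb (ha h2 c2)) (inv_mem hb)) hb1 (by
        intro h
        have h3 := congrArg orderOf h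
        rw [orderOf_cj, orderOf_cj, h1l, orderOf_one] at h3
        exact hl.one_lt.ne' h3) (comm_cj (comm_cj h12.symm a) b)
    have hxs : Commute x s := (S.Tk_comm hs hx).symm
    have ho : orderOf (b * (a * h2 * a⁻¹) * b⁻¹) = 5 := by rw [orderOf_cj, orderOf_cj, h25]
    have h5 : (x * s) ^ 5 = 1 := by rw [← h, ← ho, pow_orderOf_eq_one]
    have hx4 : x ^ 4 = 1 := by
      obtain ⟨p, u, rfl⟩ := S.X4 hx
      have e1 : S.e 2 p u * S.e 2 p u = S.e 2 0 (p * σ p) := by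
        rw [S.e_mul, char2 S, char2 S, zero_add]
      have e2 : S.e 2 p u ^ 4 = (S.e 2 p u * S.e 2 p u) * (S.e 2 p u * S.e 2 p u) := by
        simp only [pow_succ, pow_zero, one_mul, mul_assoc]
      rw [e2, e1, S.e_mul, char2 S, char2 S, zero_mul, add_zero, S.e_zero]
    have h4 : (x * s)⁻¹ = s ^ 4 := by
      have e1 : (x * s) ^ 4 = s ^ 4 := by rw [hxs.mul_pow, hx4, one_mul]
      rw [← e1]
      apply inv_eq_of_mul_eq_one_right
      rw [← pow_succ', h5]
    have h6 : x * s ∈ S.Tk 4 := by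
      rw [← inv_mem_iff, h4]
      exact pow_mem hs 4
    have h7 : 5 ∣ Nat.card (S.Tk 4) := by
      have h8 := orderOf_dvd_natCard (⟨x * s, h6⟩ : S.Tk 4)
      rwa [Subgroup.orderOf_mk, ← h, ho] at h8
    rw [card_Tk4] at h7
    exact not_five' hmod h7
  · have h8 := orderOf_dvd_natCard (⟨_, ha h2 c2⟩ : S.HO)
    rw [Subgroup.orderOf_mk, orderOf_cj, h25, card_HO S hF] at h8
    exact not_five hmod hpos 10 h8

/-- `TM` centralises `X_5` -/
theorem TM_Tk5 {t : G} (ht : t ∈ TM S) : t ∈ S.Tk 5 := by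
  refine ⟨TM_le_T S ht, mem_centralizer_iff.2 fun y hy => ?_⟩
  exact (comm_M5 S (TM_le_LO S ht) (mem_sup_left hy)).symm

/-- in `LO ≅ SL₂(q)`: an element commuting with `a ≠ 1`, `a ^ (q - 1) = 1` -/
theorem LO_pow {k : ℕ} (hq : Nat.card F = 2 ^ k) {a b : G} (ha : a ∈ S.LO) (hb : b ∈ S.LO) (hab : a * b = b * a)
    (ha1 : a ≠ 1) (haq : a ^ (Nat.card F - 1) = 1) : b ^ (Nat.card F - 1) = 1 := by
  have hc : CharP F 2 := CharTwo.of_one_ne_zero_of_two_eq_zero one_ne_zero S.two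
  obtain ⟨e⟩ := nonempty_LO S
  have h := SL.pow_card hq (A := e ⟨a, ha⟩) (B := e ⟨b, hb⟩) (by
    rw [← map_mul, ← map_mul]
    congr 1
    exact Subtype.ext hab) (by
    intro h
    exact ha1 (congrArg Subtype.val (e.injective (h.trans (map_one e).symm)))) (by
    rw [← map_pow, ← map_one e]
    congr 1
    exact Subtype.ext haq)
  rw [← map_pow, ← map_one e] at h
  exact congrArg Subtype.val (e.injective h)

/-- in `LO ≅ SL₂(q)`: an element commuting with an involution -/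
theorem LO_sq {t b : G} (ht : t ∈ S.LO) (hb : b ∈ S.LO) (hab : t * b = b * t) (ht1 : t ≠ 1) (ht2 : t * t = 1) :
    b * b = 1 := by
  have hc : CharP F 2 := CharTwo.of_one_ne_zero_of_two_eq_zero one_ne_zero S.two
  obtain ⟨e⟩ := nonempty_LO S
  have h := SL.sq_of_inv (A := e ⟨t, ht⟩) (B := e ⟨b, hb⟩) (by
    rw [← map_mul, ← map_mul]
    congr 1
    exact Subtype.ext hab) (by
    intro h
    exact ht1 (congrArg Subtype.val (e.injective (h.trans (map_one e).symm)))) (by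
    rw [← map_mul, ← map_one e]
    congr 1
    exact Subtype.ext ht2)
  rw [← map_mul, ← map_one e] at h
  exact congrArg Subtype.val (e.injective h)

/-- **commuting elements of order `l ∣ q - 1` and `3` commute with no common involution** -/
theorem regO {m : ℕ} (hm : 1 ≤ m) (hFc : Nat.card F = 2 ^ (2 * m + 1)) (hR : S.R.p = 2) {h1 h2 t : G} {l : ℕ}
    (hl : l.Prime) (hl2 : l ≠ 2) (hlq : l ∣ Nat.card F - 1) (h1l : orderOf h1 = l) (h25 : orderOf h2 = 3)
    (h12 : h1 * h2 = h2 * h1) (ht : t * t = 1) (c1 : h1 * t = t * h1) (c2 : h2 * t = t * h2) : t = 1 := by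
  by_contra ht1
  have hF := unit_of_card (F := F) hm hFc
  have hmod := mod15 m
  rw [← hFc] at hmod
  have hpos := one_le_card (F := F)
  rcases cent_cases S hF hR ht ht1 with ⟨a, ha⟩ | ⟨a, ha⟩
  · have h8 := orderOf_dvd_natCard (⟨_, ha h2 c2⟩ : S.PL)
    rw [Subgroup.orderOf_mk, orderOf_cj, h25, card_PL S hF] at h8
    exact not_three hmod hpos 12 h8
  · obtain ⟨b, hb, hb1⟩ := exists_conj_mem (H := TM S) (M := S.HO) ((TM_le_LO S).trans le_sup_left)
      (n := Nat.card F ^ 10 * (Nat.card F + 1)) hl (by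
        rw [card_HO S hF, card_TM, Nat.card_units]; ring) (not_dvd_O hpos hl hl2 hlq 10) (ha h1 c1)
        (by rw [orderOf_cj, h1l])
    obtain ⟨t1, ht1d⟩ : ∃ t1, t1 = b * (a * h1 * a⁻¹) * b⁻¹ := ⟨_, rfl⟩
    obtain ⟨g, hgd⟩ : ∃ g, g = b * (a * h2 * a⁻¹) * b⁻¹ := ⟨_, rfl⟩
    have hg : g ∈ S.HO := by rw [hgd]; exact mul_mem (mul_mem hb (ha h2 c2)) (inv_mem hb)
    have hco : t1 * g = g * t1 := by rw [ht1d, hgd]; exact comm_cj (comm_cj h12 a) b
    rw [← ht1d] at hb1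
    have ht1o : orderOf t1 = l := by rw [ht1d, orderOf_cj, orderOf_cj, h1l]
    have ht11 : t1 ≠ 1 := by
      intro h
      rw [h, orderOf_one] at ht1o
      exact hl.one_lt.ne ht1o
    have hgo : orderOf g = 3 := by rw [hgd, orderOf_cj, orderOf_cj, h25]
    obtain ⟨y, hy, n, hn, hyn⟩ := H496.TwEight.Card.HO_split S hg
    have ht1L := TM_le_LO S hb1
    have hnn : t1 * n * t1⁻¹ ∈ S.NO := H496.TwEight.Card.NO_norm S ((le_sup_left : S.LO ≤ S.HO) ht1L) hn
    have hk : y⁻¹ * (t1 * y * t1⁻¹) = n * (t1 * n * t1⁻¹)⁻¹ := by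
      have h3 : t1 * y * t1⁻¹ * (t1 * n * t1⁻¹) = y * n := by
        calc t1 * y * t1⁻¹ * (t1 * n * t1⁻¹) = t1 * (y * n) * t1⁻¹ := by group
          _ = y * n := by rw [← hyn, hco, mul_inv_cancel_right]
      calc y⁻¹ * (t1 * y * t1⁻¹) = y⁻¹ * (t1 * y * t1⁻¹ * (t1 * n * t1⁻¹)) * (t1 * n * t1⁻¹)⁻¹ := by group
        _ = _ := by rw [h3]; group
    have hk1 : y⁻¹ * (t1 * y * t1⁻¹) = 1 := H496.TwEight.Card.LO_inf_NO S hF
      (mul_mem (inv_mem hy) (mul_mem (mul_mem ht1L hy) (inv_mem ht1L))) (by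
        rw [hk]
        exact mul_mem hn (inv_mem hnn))
    have hty : t1 * y = y * t1 := mul_inv_eq_iff_eq_mul.1 (inv_mul_eq_one.1 hk1).symm
    have htn : t1 * n * t1⁻¹ = n := by
      rw [hk1] at hk
      exact (mul_inv_eq_one.1 hk.symm).symm
    have hn5 : n ∈ S.XZ 5 := S.fix_J (TM_Tk5 S hb1) ht11 (a := 2) (b := 8) (by norm_num) (by norm_num) (by norm_num)
      hn.1 htn
    have hyn' : Commute y n := comm_M5 S hy (mem_sup_left hn5)
    have hn2 : n * n = 1 := by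
      obtain ⟨s, rfl⟩ := (mem_X5 S).1 hn5
      exact o_sq S _ _
    have h3 : y ^ 3 * n = 1 := by
      have e1 : g ^ 3 = 1 := by rw [← hgo, pow_orderOf_eq_one]
      rw [hyn, hyn'.mul_pow] at e1
      have e2 : n ^ 3 = n := by
        calc n ^ 3 = n * n * n := by simp only [pow_succ, pow_zero, one_mul]
          _ = n := by rw [hn2, one_mul]
      rwa [e2] at e1
    have hn1 : n = 1 := by
      refine H496.TwEight.Card.LO_inf_NO S hF ?_ hn
      have e1 : n = (y ^ 3)⁻¹ := (inv_eq_of_mul_eq_one_right h3).symm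
      rw [e1]
      exact inv_mem (pow_mem hy 3)
    have hgy : g = y := by rw [hyn, hn1, mul_one]
    have h5 : t1 ^ (Nat.card F - 1) = 1 := by
      obtain ⟨j, hj⟩ := hlq
      rw [hj, pow_mul, ← ht1o, pow_orderOf_eq_one, one_pow]
    have h6 := LO_pow S hFc ht1L hy hty ht11 h5
    have h7 := orderOf_dvd_of_pow_eq_one h6
    rw [← hgy, hgo] at h7
    exact not_three' hmod h7

end sys

end Cfsg.Agent.H326.TF
end
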